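import Groth.Agent.Lib.Pic85.Torsion

/-!
# The determinant of a stable finite dimensional space of sections
-/

set_option autoImplicit false
universe u
open scoped TensorProduct
open WithConv

namespace Groth.Agent.Lib.Pic85

noncomputable section

variable {k : Type u} [Field k] [IsAlgClosed k] {A : Type u} [CommRing A]

theorem exists_ker_eq [Algebra k A] [Algebra.FiniteType k A] (m : Ideal A) (hm : m.IsMaximal) :
    ∃ g : A →ₐ[k] k, RingHom.ker g = m := by
  let _ : Field (A ⧸ m) := Ideal.Quotient.field m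
  have : IsJacobsonRing A := isJacobsonRing_of_finiteType (A := k) (B := A)
  have : Module.Finite k (A ⧸ m) := finite_of_finite_type_of_isJacobsonRing k (A ⧸ m)
  let eM : k ≃ₐ[k] A ⧸ m := AlgEquiv.ofBijective (Algebra.ofId k (A ⧸ m))
    (IsAlgClosed.algebraMap_bijective_of_isIntegral (k := k) (K := A ⧸ m))
  refine ⟨eM.symm.toAlgHom.comp (Ideal.Quotient.mkₐ k m), ?_⟩
  ext x
  rw [RingHom.mem_ker]
  show eM.symm (Ideal.Quotient.mk m x) = 0 ↔ _
  rw [map_eq_zero_iff _ eM.symm.injective, Ideal.Quotient.eq_zero_iff_mem]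

omit [IsAlgClosed k] in
theorem sl_map_left [Algebra k A] {I : Ideal A} (θ : I →ₗ[k] k) (χ : I →ₗ[k] I) (z : I ⊗[k] I) :
    sl I θ (TensorProduct.map χ LinearMap.id z) = χ (sl I θ z) := by
  induction z using TensorProduct.induction_on with
  | zero => simp
  | add a b ha hb => simp only [map_add, ha, hb]
  | tmul a b => simp

omit [IsAlgClosed k] in
theorem sl_map_right [Algebra k A] {I : Ideal A} (θ : I →ₗ[k] k) (φ : I →ₗ[k] I) (z : I ⊗[k] I) :
    sl I θ (TensorProduct.map LinearMap.id φ z) = sl I (θ.comp φ) z := by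
  induction z using TensorProduct.induction_on with
  | zero => simp
  | add a b ha hb => simp only [map_add, ha, hb]
  | tmul a b => simp

omit [IsAlgClosed k] in
theorem comm_mem [Algebra k A] {I : Ideal A} {w : A ⊗[k] A} (hw : w ∈ J2 (k := k) I) :
    Algebra.TensorProduct.comm k A A w ∈ J2 (k := k) I := by
  induction hw using Submodule.span_induction with
  | mem w hw => obtain ⟨⟨x, y⟩, rfl⟩ := hw; exact tmul_mem I y x
  | zero => simp
  | add p q _ _ hp hq => rw [map_add]; exact add_mem hp hq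
  | smul c p _ hp => rw [smul_eq_mul, map_mul]; exact Ideal.mul_mem_left _ _ hp

variable [HopfAlgebra k A]

omit [IsAlgClosed k] in
/-- The exchanged structure. -/
def Str.swap {I : Ideal A} (S : Str I (Δ k A)) : Str I (Δc k A) where
  δ x := Algebra.TensorProduct.comm k A A (S.δ x)
  cross x y := by
    show Algebra.TensorProduct.comm k A A (S.δ x) * Algebra.TensorProduct.comm k A A (Δ k A y) =
      Algebra.TensorProduct.comm k A A (S.δ y) * Algebra.TensorProduct.comm k A A (Δ k A x)
    rw [← map_mul, ← map_mul, S.cross]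
  mem x := comm_mem (S.mem x)
  span := by
    intro w hw
    have h : ∀ v ∈ Ideal.span (Set.range S.δ), Algebra.TensorProduct.comm k A A v ∈
        Ideal.span (Set.range fun x => Algebra.TensorProduct.comm k A A (S.δ x)) := by
      intro v hv
      induction hv using Submodule.span_induction with
      | mem v hv => obtain ⟨x, rfl⟩ := hv; exact Ideal.subset_span ⟨x, rfl⟩
      | zero => simp
      | add p q _ _ hp hq => rw [map_add]; exact add_mem hp hq
      | smul c p _ hp => rw [smul_eq_mul, map_mul]; exact Ideal.mul_mem_left _ _ hp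
    have h2 := h _ (S.span (comm_mem hw))
    have hinv : ∀ t : A ⊗[k] A, Algebra.TensorProduct.comm k A A (Algebra.TensorProduct.comm k A A t) = t := by
      intro t
      induction t using TensorProduct.induction_on with
      | zero => simp
      | add p q hp hq => simp only [map_add, hp, hq]
      | tmul p q => simp
    rwa [hinv] at h2

variable [IsDomain A] [Algebra.FiniteType k A] [IsDomain (A ⊗[k] A)]

/-- A multiplicative invertible ideal has a principal power. -/
theorem exists_pow_eq_span {I : Ideal A} (hI : I ≠ ⊥) [Module.Invertible A I] (S : Str I (Δ k A)) :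
    ∃ n : ℕ, 0 < n ∧ ∃ D : A, D ≠ 0 ∧ I ^ n = Ideal.span {D} := by
  classical
  let F : ∀ g : A →ₐ[k] k, Fun I g := fun g => (nonempty_fun I g).some
  let Ψ : ∀ g, Op I (tr (Δ k A) g) := fun g => S.op hI (F g) (tr_injective g)
  let Φ' : ∀ g, Op I (tr (Δc k A) g) := fun g => S.swap.op hI (F g) (trc_injective g)
  let e := pone k A
  obtain ⟨y, hy, hy0⟩ := Submodule.exists_mem_ne_zero_of_ne_bot hI
  let y₀ : I := ⟨y, hy⟩
  -- the operator at the unit
  obtain ⟨w, hwu, hw⟩ := exists_unit_ratio (fun x : I => ((Ψ e).χ x : A)) (fun x => (x : A)) (fun x => (x : A))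
    I hI lp_of_invertible y₀ hy0
    (fun a b => by simpa only [e, tr_one, AlgHom.id_apply] using (Ψ e).cross a b)
    (fun a b => mul_comm _ _) (fun x => ((Ψ e).χ x).2) (fun x => x.2) (Ψ e).span
    (fun x hx => Ideal.subset_span ⟨⟨x, hx⟩, rfl⟩)
  -- the composition law
  have hcomp : ∀ g : A →ₐ[k] k, ∃ a : A, ∀ h : A →ₐ[k] k, ∃ c : k, ∀ x : I,
      ((Ψ g).χ ((Ψ h).χ x) : A) = algebraMap k A c * a * (Ψ (pmul g h)).χ x := by
    intro g
    obtain ⟨c₁, m₁, s₁⟩ := combined S hI (Ψ g) (Op.id I)
    obtain ⟨c₂, m₂, s₂⟩ := combined S hI (Op.id I) (Φ' g)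
    have hmid : ∀ x : A, Algebra.TensorProduct.map (AlgHom.id k A) (tr (Δc k A) g) (Δ k A x) =
        Algebra.TensorProduct.map (tr (Δ k A) g) (AlgHom.id k A) (Δ k A x) :=
      fun x => (AlgHom.congr_fun (mid g) x).symm
    simp only [hmid] at c₂
    obtain ⟨v, hvu, hv⟩ := exists_unit_ratio _ _ _ (J2 (k := k) I) (J2_ne_bot hI) lp_J2 y₀
      (mid_injective g y hy0) c₁ c₂ m₁ m₂ s₁ s₂
    refine ⟨E e v, fun h => ?_⟩
    obtain ⟨c, hc⟩ := slices v hvu e e h
    let η : I → k := fun x => (F h).θ I ((Φ' g).χ x)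
    have hη : ∀ (a : A) (x : I), η (a • x) = pmul g h a * η x := by
      intro a x
      have h1 : (Φ' g).χ (a • x) = tr (Δc k A) g a • (Φ' g).χ x := Subtype.ext ((Φ' g).smul hI a x)
      simp only [η, h1, Fun.θ_apply, map_smul, smul_eq_mul, map_mul]
      rw [← comp_tr_c h g]
      rfl
    refine ⟨c * η (F (pmul g h)).t, fun x => ?_⟩
    have hθ : ((F h).θ I).comp (Φ' g).χ = η (F (pmul g h)).t • (F (pmul g h)).θ I :=
      LinearMap.ext fun x => (F (pmul g h)).eq_mul I η hη x
    have hz : (F h).Φ I (TensorProduct.map (Ψ g).χ LinearMap.id (S.lft x)) =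
        v * (F h).Φ I (TensorProduct.map LinearMap.id (Φ' g).χ (S.lft x)) := by
      refine mul_left_cancel₀ (includeRight_ne_zero (k := k) ((F h).t_ne_zero I)) ?_
      rw [(F h).Φ_spec, mul_left_comm _ v, (F h).Φ_spec, mul_left_comm v]
      exact congrArg _ (hv x)
    have h2 := congrArg (E h) hz
    rw [map_mul, ← (F h).coe_sl, ← (F h).coe_sl, sl_map_left, sl_map_right, hθ, hc] at h2
    have h3 : sl I (η (F (pmul g h)).t • (F (pmul g h)).θ I) (S.lft x) =
        η (F (pmul g h)).t • (Ψ (pmul g h)).χ x := by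
      show _ = _ • sl I ((F (pmul g h)).θ I) (S.lft x)
      induction S.lft x using TensorProduct.induction_on with
      | zero => simp
      | add a b ha hb => simp only [map_add, smul_add, ha, hb]
      | tmul a b => simp [mul_smul]
    rw [h3] at h2
    rw [map_mul]
    refine Eq.trans h2 ?_
    rw [Submodule.coe_smul_of_tower, Algebra.smul_def]
    ring
  -- translates of the unit `w`
  have hwt : ∀ g : A →ₐ[k] k, ∃ c : k, c ≠ 0 ∧ tr (Δ k A) g w = algebraMap k A c * w := fun g => by
    obtain ⟨c, hc⟩ := slices (Δ k A w) (hwu.map _) e e g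
    change tr (Δ k A) g w = algebraMap k A c * tr (Δ k A) e w at hc
    rw [tr_one, AlgHom.id_apply] at hc
    refine ⟨c, fun h0 => hwu.ne_zero (tr_injective g ?_), hc⟩
    rw [hc, h0, map_zero, map_zero, zero_mul]
  have hlaw : ∀ g h : A →ₐ[k] k, ∃ c : k, ∀ x : I,
      ((Ψ g).χ ((Ψ h).χ x) : A) = algebraMap k A c * w * (Ψ (pmul g h)).χ x := by
    intro g h
    obtain ⟨a, ha⟩ := hcomp g
    obtain ⟨c, hc⟩ := ha h
    obtain ⟨κ, hκ⟩ := ha e
    obtain ⟨c', hc'0, hc'⟩ := hwt g
    have he : pmul g e = g := congrArg ofConv (mul_one (toConv g))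
    have h1 := hκ y₀
    rw [he, show (Ψ e).χ y₀ = w • y₀ from Subtype.ext (hw y₀), (Ψ g).smul hI, hc'] at h1
    have hne : ((Ψ g).χ y₀ : A) ≠ 0 := fun h0 => hy0 (congrArg Subtype.val
      ((Ψ g).injective hI (a₁ := y₀) (a₂ := 0) (by rw [map_zero]; exact Subtype.ext h0)))
    have h4 := mul_right_cancel₀ hne h1
    have hκ0 : κ ≠ 0 := fun h0 => by
      rw [h0, map_zero, zero_mul, mul_eq_zero] at h4
      exact h4.elim (fun h5 => hc'0 ((algebraMap k A).injective (h5.trans (map_zero _).symm))) hwu.ne_zero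
    refine ⟨c * (κ⁻¹ * c'), fun x => ?_⟩
    rw [hc x, map_mul, map_mul]
    have h6 : a = algebraMap k A κ⁻¹ * algebraMap k A c' * w := by
      rw [mul_assoc, h4, ← mul_assoc, ← map_mul, inv_mul_cancel₀ hκ0, map_one, one_mul]
    rw [h6]
    ring
  -- normalised operators
  obtain ⟨w', hw'⟩ := hwu.exists_left_inv
  let μw : I →ₗ[k] I := (w' • LinearMap.id (R := A) (M := I)).restrictScalars k
  let P : (A →ₐ[k] k) → I →ₗ[k] I := fun g => μw ∘ₗ (Ψ g).χ
  have hP : ∀ g h, ∃ c : k, ∀ x, P g (P h x) = c • P (pmul g h) x := by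
    intro g h
    obtain ⟨c, hc⟩ := hlaw g h
    obtain ⟨c', hc'0, hc'⟩ := hwt g
    have hinv : tr (Δ k A) g w' = algebraMap k A c'⁻¹ * w' := by
      have h1 : tr (Δ k A) g w' * tr (Δ k A) g w = 1 := by rw [← map_mul, hw', map_one]
      rw [hc'] at h1
      have h2 : (algebraMap k A c') * (algebraMap k A c'⁻¹) = 1 := by rw [← map_mul, mul_inv_cancel₀ hc'0, map_one]
      linear_combination (algebraMap k A c'⁻¹ * w') * h1 - (tr (Δ k A) g w') * h2 -
        (tr (Δ k A) g w') * (algebraMap k A c' * algebraMap k A c'⁻¹) * hw'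
    refine ⟨c'⁻¹ * c, fun x => Subtype.ext ?_⟩
    show w' * ((Ψ g).χ (w' • (Ψ h).χ x) : A) = _
    rw [(Ψ g).smul hI, hinv, hc x, Submodule.coe_smul_of_tower, Algebra.smul_def, map_mul]
    show _ = _ * (w' * ((Ψ (pmul g h)).χ x : A))
    linear_combination (algebraMap k A c'⁻¹ * algebraMap k A c * w' * ((Ψ (pmul g h)).χ x : A)) * hw'
  have hPinj : ∀ g, Function.Injective (P g) := fun g a b h => (Ψ g).injective hI (Subtype.ext
    (mul_left_cancel₀ (a := w') (fun h0 => by rw [h0, zero_mul] at hw'; exact zero_ne_one hw')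
      (congrArg Subtype.val h)))
  -- the stable space
  let V : Submodule k I := Submodule.span k (Set.range fun g => P g y₀)
  have hVfin : FiniteDimensional k V := by
    obtain ⟨s, hs⟩ := (S.lft y₀).exists_finset
    have hle : V ≤ Submodule.span k (↑(s.image fun p => μw p.1) : Set I) := by
      refine Submodule.span_le.mpr ?_
      rintro _ ⟨g, rfl⟩
      show μw (sl I ((F g).θ I) (S.lft y₀)) ∈ _
      rw [hs, map_sum, map_sum]
      refine Submodule.sum_mem _ fun p hp => ?_
      rw [sl_tmul, map_smul]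
      exact Submodule.smul_mem _ _ (Submodule.subset_span (Finset.mem_image.mpr ⟨p, hp, rfl⟩))
    exact Submodule.finiteDimensional_of_le hle
  have hVst : ∀ g, ∀ v ∈ V, P g v ∈ V := by
    intro g v hv
    induction hv using Submodule.span_induction with
    | mem v hv =>
      obtain ⟨h, rfl⟩ := hv
      obtain ⟨c, hc⟩ := hP g h
      rw [hc]
      exact Submodule.smul_mem _ _ (Submodule.subset_span ⟨_, rfl⟩)
    | zero => rw [map_zero]; exact zero_mem _
    | add p q _ _ hp hq => rw [map_add]; exact add_mem hp hq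
    | smul c p _ hp => rw [map_smul]; exact Submodule.smul_mem _ _ hp
  have hVne : V ≠ ⊥ := fun h => by
    have h1 : P e y₀ = 0 := (Submodule.mem_bot k).mp (h ▸ Submodule.subset_span ⟨e, rfl⟩)
    exact hy0 (congrArg Subtype.val (hPinj e (h1.trans (map_zero _).symm)))
  -- the matrix
  let n := Module.finrank k V
  let b : Module.Basis (Fin n) k V := Module.finBasis k V
  obtain ⟨π, hπ⟩ := V.subtype.exists_leftInverse_of_injective V.ker_subtype
  let m : Fin n → Fin n → I := fun i j =>
    TensorProduct.lid k I (TensorProduct.map ((b.coord i) ∘ₗ π ∘ₗ μw) LinearMap.id (S.lft (b j : V).1))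
  have hm : ∀ g i j, (F g).θ I (m i j) = b.coord i (π (P g (b j : V).1)) := by
    intro g i j
    show _ = b.coord i (π (μw (sl I ((F g).θ I) (S.lft (b j : V).1))))
    simp only [m]
    induction S.lft (b j : V).1 using TensorProduct.induction_on with
    | zero => simp
    | add p q hp hq => simp only [map_add, hp, hq]
    | tmul p q => simp [mul_comm]
  let d : A := Matrix.det (Matrix.of fun i j => (m i j : A))
  have hn : 0 < n := Module.finrank_pos_iff_exists_ne_zero.mpr (by
    obtain ⟨v, hv, hv0⟩ := Submodule.exists_mem_ne_zero_of_ne_bot hVne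
    exact ⟨⟨v, hv⟩, fun h => hv0 (congrArg Subtype.val h)⟩)
  have hdI : d ∈ I ^ n := by
    rw [show d = _ from Matrix.det_apply _]
    refine Submodule.sum_mem _ fun σ _ => ?_
    rw [Units.smul_def, zsmul_eq_mul]
    refine Ideal.mul_mem_left _ _ ?_
    have := Ideal.prod_mem_prod (s := (Finset.univ : Finset (Fin n))) (I := fun _ => I) (x := fun i => (m (σ i) i : A))
      fun i _ => (m (σ i) i).2
    simpa using this
  have hloc : ∀ g : A →ₐ[k] k, ∃ c e' : A, g c ≠ 0 ∧ c * d = e' * (F g).t ^ n ∧ g e' ≠ 0 ∧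
      ∀ x ∈ I ^ n, ∃ f : A, c * x = f * (F g).t ^ n := by
    intro g
    let Fg := F g
    have hs : ∀ x : I, Fg.f Fg.t * (x : A) = Fg.f x * (Fg.t : A) := fun x => ideal_comm I Fg.f Fg.t x
    refine ⟨Fg.f Fg.t ^ n, Matrix.det (Matrix.of fun i j => Fg.f (m i j)), by simp [map_pow, Fg.h], ?_, ?_, ?_⟩
    · have h1 : (Fg.f Fg.t) • (Matrix.of fun i j => (m i j : A)) = (Fg.t : A) • (Matrix.of fun i j => Fg.f (m i j)) := by
        ext i j
        simp only [Matrix.smul_apply, Matrix.of_apply, smul_eq_mul]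
        rw [hs, mul_comm]
      have h2 := congrArg Matrix.det h1
      rw [Matrix.det_smul, Matrix.det_smul, Fintype.card_fin] at h2
      rw [h2, mul_comm]
    · rw [AlgHom.map_det]
      let T : V →ₗ[k] V := (π ∘ₗ P g) ∘ₗ V.subtype
      have hT : Function.Injective T := fun u v huv => by
        have hu : ∀ u : V, T u = ⟨P g u, hVst g u u.2⟩ := fun u => LinearMap.congr_fun hπ ⟨P g u, hVst g u u.2⟩
        rw [hu, hu] at huv
        exact Subtype.ext (hPinj g (congrArg Subtype.val huv))
      have heq : g.mapMatrix (Matrix.of fun i j => Fg.f (m i j)) = LinearMap.toMatrix b b T := by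
        ext i j
        rw [LinearMap.toMatrix_apply]
        exact hm g i j
      rw [heq, LinearMap.det_toMatrix]
      intro h0
      exact (LinearMap.det_eq_zero_iff_ker_ne_bot.mp h0) (LinearMap.ker_eq_bot.mpr hT)
    · intro x hx
      have hpow : ∀ N : ℕ, ∀ x ∈ I ^ N, ∃ f : A, Fg.f Fg.t ^ N * x = f * (Fg.t : A) ^ N := by
        intro N
        induction N with
        | zero => intro x _; exact ⟨x, by simp⟩
        | succ N ih =>
          intro x hx
          rw [pow_succ] at hx
          refine Submodule.mul_induction_on hx (fun p hp q hq => ?_) fun p q hp hq => ?_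
          · obtain ⟨f, hf⟩ := ih p hp
            exact ⟨f * Fg.f ⟨q, hq⟩, by
              have := hs ⟨q, hq⟩
              linear_combination (Fg.f Fg.t * q) * hf + f * (Fg.t : A) ^ N * this⟩
          · obtain ⟨f, hf⟩ := hp; obtain ⟨f', hf'⟩ := hq
            exact ⟨f + f', by rw [mul_add, hf, hf', add_mul]⟩
      exact hpow n x hx
  refine ⟨n, hn, d, ?_, le_antisymm (fun x hx => mem_of_local fun M hM => ?_)
    ((Ideal.span_singleton_le_iff_mem _).mpr hdI)⟩
  · intro h0
    obtain ⟨c, e', hc, hd, he', -⟩ := hloc e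
    rw [h0, mul_zero] at hd
    rcases mul_eq_zero.mp hd.symm with h | h
    · exact he' (by rw [h, map_zero])
    · exact pow_ne_zero n ((F e).t_ne_zero I) h
  · obtain ⟨g, rfl⟩ := exists_ker_eq (k := k) M hM
    obtain ⟨c, e', hc, hd, he', hall⟩ := hloc g
    obtain ⟨f, hf⟩ := hall x hx
    refine ⟨e' * c, fun h => ?_, Ideal.mem_span_singleton'.mpr ⟨f * c, ?_⟩⟩
    · rw [RingHom.mem_ker, map_mul, mul_eq_zero] at h
      exact h.elim he' hc
    · linear_combination f * hd - e' * hf

end

end Groth.Agent.Lib.Pic85
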