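import Groth.Agent.Lib.Pic85.Ideal
import Mathlib.GroupTheory.MonoidLocalization.UniqueFactorization
import Mathlib.RingTheory.Localization.Away.Basic

/-!
# Moving an invertible ideal to one containing a power of `f`
-/

set_option autoImplicit false
universe u

namespace Groth.Agent.Lib.Pic85

theorem exists_scale {A : Type u} [CommRing A] [IsDomain A] [IsNoetherianRing A] {f : A} (hf : f ≠ 0)
    [Subsingleton (CommRing.Pic (Localization.Away f))] {I : Ideal A} (hI : I ≠ ⊥) [Module.Invertible A I] :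
    ∃ I' : Ideal A, LP I' ∧ (∃ N, f ^ N ∈ I') ∧ Nonempty (I' ≃ₗ[A] I) := by
  let S := Localization.Away f
  have hle : Submonoid.powers f ≤ nonZeroDivisors A :=
    le_nonZeroDivisors_of_noZeroDivisors fun ⟨m, hm⟩ => hf (eq_zero_of_pow_eq_zero hm)
  have hinj : Function.Injective (algebraMap A S) := IsLocalization.injective S hle
  have : IsDomain S := IsLocalization.isDomain_of_le_nonZeroDivisors (S := S) hle
  let J := I.map (algebraMap A S)
  have hJ : J ≠ ⊥ := fun h => hI ((Ideal.map_eq_bot_iff_of_injective hinj).mp h)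
  have hJl : LP J := fun m hm => by
    obtain ⟨φ, x, hx⟩ := exists_functional_notMem (M := I) _ (Ideal.comap_ne_top (algebraMap A S) hm.ne_top)
    refine ⟨algebraMap A S x, Ideal.mem_map_of_mem _ x.2, algebraMap A S (φ x), hx, fun y hy => ?_⟩
    induction hy using Submodule.span_induction with
    | mem y hy =>
      obtain ⟨z, hz, rfl⟩ := hy
      refine ⟨algebraMap A S (φ ⟨z, hz⟩), ?_⟩
      rw [← map_mul, ← map_mul]
      exact congrArg _ (congrArg Subtype.val (hom_comm φ x ⟨z, hz⟩))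
    | zero => exact ⟨0, by simp⟩
    | add p q _ _ hp hq =>
      obtain ⟨c, hc⟩ := hp; obtain ⟨d, hd⟩ := hq
      exact ⟨c + d, by rw [mul_add, hc, hd, add_mul]⟩
    | smul r p _ hp =>
      obtain ⟨c, hc⟩ := hp
      exact ⟨r * c, by rw [smul_eq_mul, mul_left_comm, hc, mul_assoc]⟩
  have := invertible_of_lp hJ hJl
  obtain ⟨e⟩ := (CommRing.Pic.mk_eq_one_iff (R := S) (M := J)).mp (Subsingleton.elim _ _)
  let g : J := e.symm 1
  have hgen : ∀ y ∈ J, ∃ c : S, y = c * g := fun y hy => ⟨e ⟨y, hy⟩, congrArg Subtype.val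
    (show (⟨y, hy⟩ : J) = e ⟨y, hy⟩ • g from e.injective (by rw [map_smul, LinearEquiv.apply_symm_apply, smul_eq_mul, mul_one]))⟩
  obtain ⟨⟨⟨t, ht⟩, s⟩, hts⟩ := (IsLocalization.mem_map_algebraMap_iff (Submonoid.powers f) S).mp g.2
  change (g : S) * algebraMap A S s = algebraMap A S t at hts
  have hsu : IsUnit (algebraMap A S (s : A)) := IsLocalization.map_units S s
  have ht0 : t ≠ 0 := fun h => by
    have hg0 : (g : S) = 0 := by
      rw [h, map_zero] at hts
      exact (mul_eq_zero.mp hts).resolve_right hsu.ne_zero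
    refine hJ ((Submodule.eq_bot_iff _).mpr fun y hy => ?_)
    obtain ⟨c, hc⟩ := hgen y hy
    rw [hc, hg0, mul_zero]
  have hdiv : ∀ y ∈ I, ∃ N, f ^ N * y ∈ Ideal.span {t} := fun y hy => by
    obtain ⟨c, hc⟩ := hgen _ (Ideal.mem_map_of_mem (algebraMap A S) hy)
    obtain ⟨⟨d, r⟩, hd⟩ := IsLocalization.surj (Submonoid.powers f) c
    obtain ⟨N, hN⟩ := (s * r).2
    refine ⟨N, Ideal.mem_span_singleton'.mpr ⟨d, hinj ?_⟩⟩
    simp only [Submonoid.coe_mul] at hN
    rw [hN, map_mul, map_mul, map_mul, ← hd, ← hts, hc]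
    ring
  let Q : ℕ →o Ideal A :=
    { toFun := fun N => (Ideal.span {t}).colon {f ^ N}
      monotone' := fun a b hab x hx => by
        rw [Submodule.mem_colon_singleton] at hx ⊢
        rw [smul_eq_mul, ← Nat.sub_add_cancel hab, pow_add, ← mul_assoc, mul_comm x, mul_assoc]
        exact Ideal.mul_mem_left _ _ hx }
  obtain ⟨N, hN⟩ := monotone_stabilizes_iff_noetherian.mpr (inferInstance : IsNoetherian A A) Q
  have hall : ∀ y ∈ I, f ^ N * y ∈ Ideal.span {t} := fun y hy => by
    obtain ⟨M, hM⟩ := hdiv y hy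
    have h1 : y ∈ Q (max N M) := Q.monotone (le_max_right N M)
      (Submodule.mem_colon_singleton.mpr (by rw [smul_eq_mul, mul_comm]; exact hM))
    rw [← hN _ (le_max_left N M)] at h1
    rw [mul_comm]
    exact Submodule.mem_colon_singleton.mp h1
  let I' : Ideal A := (Ideal.span {f ^ N} * I).colon {t}
  have heq : Ideal.span {t} * I' = Ideal.span {f ^ N} * I := by
    refine le_antisymm (Ideal.span_singleton_mul_le_iff.mpr fun z hz => ?_)
      (Ideal.span_singleton_mul_le_iff.mpr fun y hy => ?_)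
    · rw [mul_comm t z]; exact Submodule.mem_colon_singleton.mp hz
    · obtain ⟨z, hz⟩ := Ideal.mem_span_singleton'.mp (hall y hy)
      have hz' : z ∈ I' := Submodule.mem_colon_singleton.mpr (by
        rw [smul_eq_mul, hz]; exact Ideal.mul_mem_mul (Ideal.mem_span_singleton_self _) hy)
      rw [← hz, mul_comm z t]
      exact Ideal.mul_mem_mul (Ideal.mem_span_singleton_self t) hz'
  obtain ⟨e₁⟩ := span_mul_equiv ht0 I'
  obtain ⟨e₂⟩ := span_mul_equiv (pow_ne_zero N hf) I
  let ε : I' ≃ₗ[A] I := e₁.trans ((LinearEquiv.ofEq _ _ heq).trans e₂.symm)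
  have : Module.Invertible A I' := Module.Invertible.congr ε.symm
  exact ⟨I', lp_of_invertible, ⟨N, Submodule.mem_colon_singleton.mpr (Ideal.mul_mem_mul (Ideal.mem_span_singleton_self _) ht)⟩, ⟨ε⟩⟩

end Groth.Agent.Lib.Pic85
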