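import Groth.Agent.Lib.Pic85.Translate
import Mathlib.LinearAlgebra.Matrix.Determinant.Basic
import Mathlib.LinearAlgebra.FiniteDimensional.Basic
import Mathlib.RingTheory.Nullstellensatz

/-!
# Multiplicative ideals on a connected linear group have principal powers
-/

set_option autoImplicit false
universe u v
open scoped TensorProduct
open WithConv

namespace Groth.Agent.Lib.Pic85

noncomputable section

/-- Two spanning families with the same cross relation differ by a unit. -/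
theorem exists_unit_ratio {R : Type u} [CommRing R] [IsDomain R] {ι : Type v} (F₁ F₂ D : ι → R) (J : Ideal R)
    (hJ : J ≠ ⊥) (hl : LP J) (y₀ : ι) (hD : D y₀ ≠ 0)
    (c₁ : ∀ x y, F₁ x * D y = F₁ y * D x) (c₂ : ∀ x y, F₂ x * D y = F₂ y * D x)
    (m₁ : ∀ x, F₁ x ∈ J) (m₂ : ∀ x, F₂ x ∈ J) (s₁ : J ≤ Ideal.span (Set.range F₁))
    (s₂ : J ≤ Ideal.span (Set.range F₂)) : ∃ w, IsUnit w ∧ ∀ x, F₁ x = w * F₂ x := by
  have key : ∀ (G H : ι → R), (∀ x y, G x * D y = G y * D x) → (∀ x y, H x * D y = H y * D x) →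
      (∀ x, G x ∈ J) → J ≤ Ideal.span (Set.range H) → H y₀ ∣ G y₀ := by
    intro G H cG cH mG sH
    have hx : ∀ x, G y₀ * H x = H y₀ * G x := fun x => mul_right_cancel₀ hD (by
      linear_combination G y₀ * cH x y₀ - H y₀ * cG x y₀)
    rw [← Ideal.mem_span_singleton]
    refine mem_of_local fun m hm => ?_
    obtain ⟨t, ht, s, hs, hgen⟩ := hl m hm
    have ht0 := ne_zero_of_lp hJ hs hgen
    have hle : Ideal.span {G y₀} * J ≤ Ideal.span {H y₀} * J := by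
      refine (Ideal.mul_mono_right sH).trans ?_
      rw [Ideal.span_mul_span', Ideal.span_le]
      rintro _ ⟨_, rfl, _, ⟨x, rfl⟩, rfl⟩
      show G y₀ * H x ∈ _
      rw [hx]
      exact Ideal.mul_mem_mul (Ideal.mem_span_singleton_self _) (mG x)
    obtain ⟨w, hw, hwe⟩ := Ideal.mem_span_singleton_mul.mp
      (hle (Ideal.mul_mem_mul (Ideal.mem_span_singleton_self _) ht))
    obtain ⟨c, hc⟩ := hgen w hw
    refine ⟨s, hs, Ideal.mem_span_singleton'.mpr ⟨c, mul_right_cancel₀ ht0 ?_⟩⟩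
    linear_combination s * hwe - H y₀ * hc
  have hne : ∀ (H : ι → R), (∀ x y, H x * D y = H y * D x) → J ≤ Ideal.span (Set.range H) → H y₀ ≠ 0 := by
    intro H cH sH h
    refine hJ (bot_unique (sH.trans (Ideal.span_le.mpr ?_)))
    rintro _ ⟨x, rfl⟩
    have := cH x y₀
    rw [h, zero_mul, mul_eq_zero] at this
    exact (this.resolve_right hD) ▸ Submodule.zero_mem _
  obtain ⟨w, hw⟩ := key F₁ F₂ c₁ c₂ m₁ s₂
  obtain ⟨v, hv⟩ := key F₂ F₁ c₂ c₁ m₂ s₁
  have h2 := hne F₂ c₂ s₂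
  refine ⟨w, IsUnit.of_mul_eq_one v ?_, fun x => mul_right_cancel₀ hD ?_⟩
  · apply mul_left_cancel₀ h2
    linear_combination -hv - v * hw
  · linear_combination c₁ x y₀ + D x * hw - w * c₂ x y₀

variable {k : Type u} [Field k] {A : Type u} [CommRing A] [Algebra k A] {I : Ideal A}

theorem lp_J2 [IsDomain (A ⊗[k] A)] [Module.Invertible A I] : LP (J2 (k := k) I) := fun m hm => by
  have hp₁ : (Ideal.comap (Algebra.TensorProduct.includeLeft : A →ₐ[k] A ⊗[k] A) m) ≠ ⊤ :=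
    Ideal.comap_ne_top _ hm.ne_top
  have hp₂ : (Ideal.comap (Algebra.TensorProduct.includeRight : A →ₐ[k] A ⊗[k] A) m) ≠ ⊤ :=
    Ideal.comap_ne_top _ hm.ne_top
  obtain ⟨f₁, x₁, h₁⟩ := exists_functional_notMem (M := I) _ hp₁
  obtain ⟨f₂, x₂, h₂⟩ := exists_functional_notMem (M := I) _ hp₂
  refine ⟨_, tmul_mem I x₁ x₂, f₁ x₁ ⊗ₜ f₂ x₂, fun h => ?_, fun w hw => ?_⟩
  · rw [show f₁ x₁ ⊗ₜ[k] f₂ x₂ = (f₁ x₁ ⊗ₜ[k] (1 : A)) * ((1 : A) ⊗ₜ[k] f₂ x₂) by simp] at h
    exact (hm.isPrime.mem_or_mem h).elim h₁ h₂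
  · obtain ⟨z, rfl⟩ := exists_iota I hw
    clear hw
    induction z using TensorProduct.induction_on with
    | zero => exact ⟨0, by simp⟩
    | add a b ha hb =>
      obtain ⟨p, hp⟩ := ha; obtain ⟨q, hq⟩ := hb
      exact ⟨p + q, by rw [map_add, mul_add, hp, hq, add_mul]⟩
    | tmul a b =>
      refine ⟨f₁ a ⊗ₜ f₂ b, ?_⟩
      rw [iota_tmul, Algebra.TensorProduct.tmul_mul_tmul, Algebra.TensorProduct.tmul_mul_tmul,
        ideal_comm I f₁ x₁ a, ideal_comm I f₂ x₂ b]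

theorem J2_ne_bot [IsDomain A] [IsDomain (A ⊗[k] A)] (hI : I ≠ ⊥) : J2 (k := k) I ≠ ⊥ := fun h => by
  obtain ⟨y, hy, hy0⟩ := Submodule.exists_mem_ne_zero_of_ne_bot hI
  have h0 : y ⊗ₜ[k] y = 0 := (Submodule.eq_bot_iff _).mp h _ (tmul_mem (k := k) I ⟨y, hy⟩ ⟨y, hy⟩)
  have h1 : ((y ⊗ₜ[k] (1 : A)) : A ⊗[k] A) * ((1 : A) ⊗ₜ[k] y) = 0 := by simpa using h0
  rcases mul_eq_zero.mp h1 with h | h
  · exact hy0 (Algebra.TensorProduct.includeLeft_injective (S := k) (algebraMap k A).injective (h.trans (map_zero _).symm))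
  · exact includeRight_ne_zero (k := k) hy0 h

theorem tmul_ne_zero [IsDomain A] [IsDomain (A ⊗[k] A)] {a b : A} (ha : a ≠ 0) (hb : b ≠ 0) : a ⊗ₜ[k] b ≠ 0 := fun h => by
  have h1 : ((a ⊗ₜ[k] (1 : A)) : A ⊗[k] A) * ((1 : A) ⊗ₜ[k] b) = 0 := by simpa using h
  rcases mul_eq_zero.mp h1 with h | h
  · exact ha (Algebra.TensorProduct.includeLeft_injective (S := k) (algebraMap k A).injective (h.trans (map_zero _).symm))
  · exact includeRight_ne_zero (k := k) hb h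

/-- An operator semilinear with respect to `σ`, spanning `I`. -/
structure Op (I : Ideal A) (σ : A →ₐ[k] A) where
  /-- The operator. -/
  χ : I →ₗ[k] I
  cross : ∀ x y : I, (χ x : A) * σ y = (χ y : A) * σ x
  span : I ≤ Ideal.span (Set.range fun x => (χ x : A))
  inj : Function.Injective σ

/-- The identity operator. -/
def Op.id (I : Ideal A) : Op (k := k) I (AlgHom.id k A) where
  χ := LinearMap.id
  cross x y := mul_comm _ _
  span x hx := Ideal.subset_span ⟨⟨x, hx⟩, rfl⟩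
  inj := Function.injective_id

variable [IsDomain A]

theorem Op.smul {σ : A →ₐ[k] A} (O : Op I σ) (hI : I ≠ ⊥) (a : A) (x : I) :
    (O.χ (a • x) : A) = σ a * O.χ x := by
  obtain ⟨y, hy, hy0⟩ := Submodule.exists_mem_ne_zero_of_ne_bot hI
  refine mul_right_cancel₀ (b := σ y) (fun h => hy0 (O.inj (h.trans (map_zero _).symm))) ?_
  rw [O.cross (a • x) ⟨y, hy⟩, mul_assoc, O.cross x ⟨y, hy⟩]
  show _ * σ (a * x) = _
  rw [map_mul]
  ring

theorem Op.injective {σ : A →ₐ[k] A} (O : Op I σ) (hI : I ≠ ⊥) : Function.Injective O.χ := by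
  refine (injective_iff_map_eq_zero _).mpr fun x hx => ?_
  by_contra hne
  have hx0 : σ x ≠ 0 := fun h => hne (Subtype.ext (O.inj (h.trans (map_zero _).symm)))
  refine hI (bot_unique (O.span.trans (Ideal.span_le.mpr ?_)))
  rintro _ ⟨y, rfl⟩
  have := O.cross x y
  rw [hx, Submodule.coe_zero, zero_mul, eq_comm, mul_eq_zero] at this
  exact (Submodule.mem_bot A).mpr (this.resolve_right hx0)

variable [IsDomain (A ⊗[k] A)] {D : A →ₐ[k] A ⊗[k] A}

/-- The operator of a multiplicative structure at a point. -/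
def Str.op (S : Str I D) (hI : I ≠ ⊥) {g : A →ₐ[k] k} (F : Fun I g) (hσ : Function.Injective (tr D g)) :
    Op I (tr D g) :=
  have hy : ∃ y : I, tr D g y ≠ 0 := by
    obtain ⟨y, hy, hy0⟩ := Submodule.exists_mem_ne_zero_of_ne_bot hI
    exact ⟨⟨y, hy⟩, fun h => hy0 (hσ (h.trans (map_zero _).symm))⟩
  { χ :=
    { toFun := S.ψ F
      map_add' := fun a b => by
        obtain ⟨y, hy⟩ := hy
        refine Subtype.ext (mul_right_cancel₀ hy ?_)
        rw [Submodule.coe_add, add_mul, S.ψ_cross F a y, S.ψ_cross F b y, S.ψ_cross F (a + b) y, ← mul_add, ← map_add]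
        rfl
      map_smul' := fun c a => by
        obtain ⟨y, hy⟩ := hy
        refine Subtype.ext (mul_right_cancel₀ hy ?_)
        rw [RingHom.id_apply, S.ψ_cross F (c • a) y, Submodule.coe_smul_of_tower c (S.ψ F a), Submodule.coe_smul_of_tower c a,
          Algebra.smul_mul_assoc, S.ψ_cross F a y, map_smul, Algebra.mul_smul_comm] }
    cross := S.ψ_cross F
    span := S.ψ_span F
    inj := hσ }

/-- The family of two operators applied to a multiplicative structure. -/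
theorem combined (S : Str I D) (hI : I ≠ ⊥) {σ₁ σ₂ : A →ₐ[k] A} (O₁ : Op I σ₁) (O₂ : Op I σ₂) :
    let F := fun x => iota I (TensorProduct.map O₁.χ O₂.χ (S.lft x))
    let Sg := fun x : I => Algebra.TensorProduct.map σ₁ σ₂ (D x)
    (∀ x y, F x * Sg y = F y * Sg x) ∧ (∀ x, F x ∈ J2 (k := k) I) ∧ J2 (k := k) I ≤ Ideal.span (Set.range F) := by
  intro F Sg
  obtain ⟨y, hy, hy0⟩ := Submodule.exists_mem_ne_zero_of_ne_bot hI
  let y₀ : I := ⟨y, hy⟩
  have hc : σ₁ y₀ ⊗ₜ[k] σ₂ y₀ ≠ 0 := tmul_ne_zero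
    (fun h => hy0 (O₁.inj (h.trans (map_zero _).symm))) (fun h => hy0 (O₂.inj (h.trans (map_zero _).symm)))
  have hs : ∀ x, (σ₁ y₀ ⊗ₜ[k] σ₂ y₀) * F x =
      ((O₁.χ y₀ : A) ⊗ₜ[k] (O₂.χ y₀ : A)) * Algebra.TensorProduct.map σ₁ σ₂ (S.δ x) := fun x => by
    rw [← S.iota_lft x]
    exact slide σ₁ σ₂ O₁.χ O₂.χ O₁.cross O₂.cross y₀ y₀ (S.lft x)
  refine ⟨fun x y => mul_left_cancel₀ hc ?_, fun x => iota_mem I _, ?_⟩
  · rw [← mul_assoc, hs, ← mul_assoc, hs, mul_assoc, mul_assoc]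
    simp only [Sg, ← map_mul, S.cross]
  suffices h : ∀ a b : I, (O₁.χ a : A) ⊗ₜ[k] (O₂.χ b : A) ∈ Ideal.span (Set.range F) by
    refine Ideal.span_le.mpr ?_
    rintro _ ⟨⟨x, y⟩, rfl⟩
    have h2 : ∀ b : I, ∀ a ∈ Ideal.span (Set.range fun z => (O₁.χ z : A)),
        a ⊗ₜ[k] (O₂.χ b : A) ∈ Ideal.span (Set.range F) := by
      intro b a ha
      induction ha using Submodule.span_induction with
      | mem a ha => obtain ⟨z, rfl⟩ := ha; exact h z b
      | zero => simp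
      | add p q _ _ hp hq => rw [TensorProduct.add_tmul]; exact add_mem hp hq
      | smul c p _ hp =>
        rw [show (c • p) ⊗ₜ[k] (O₂.χ b : A) = (c ⊗ₜ[k] (1 : A)) * (p ⊗ₜ[k] (O₂.χ b : A)) by simp]
        exact Ideal.mul_mem_left _ _ hp
    have h3 : ∀ b ∈ Ideal.span (Set.range fun z => (O₂.χ z : A)),
        (x : A) ⊗ₜ[k] b ∈ Ideal.span (Set.range F) := by
      intro b hb
      induction hb using Submodule.span_induction with
      | mem a ha => obtain ⟨z, rfl⟩ := ha; exact h2 z x (O₁.span x.2)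
      | zero => simp
      | add p q _ _ hp hq => rw [TensorProduct.tmul_add]; exact add_mem hp hq
      | smul c p _ hp =>
        rw [show (x : A) ⊗ₜ[k] (c • p) = ((1 : A) ⊗ₜ[k] c) * ((x : A) ⊗ₜ[k] p) by simp]
        exact Ideal.mul_mem_left _ _ hp
    exact h3 y (O₂.span y.2)
  intro a b
  suffices h : ∀ w ∈ Ideal.span (Set.range S.δ), ∃ v, (σ₁ y₀ ⊗ₜ[k] σ₂ y₀) * v =
      ((O₁.χ y₀ : A) ⊗ₜ[k] (O₂.χ y₀ : A)) * Algebra.TensorProduct.map σ₁ σ₂ w ∧ v ∈ Ideal.span (Set.range F) by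
    obtain ⟨v, hv, hv'⟩ := h _ (S.span (iota_mem I (a ⊗ₜ b)))
    rw [← slide σ₁ σ₂ O₁.χ O₂.χ O₁.cross O₂.cross y₀ y₀ (a ⊗ₜ b)] at hv
    rw [mul_left_cancel₀ hc hv] at hv'
    simpa using hv'
  intro w hw
  induction hw using Submodule.span_induction with
  | mem w hw => obtain ⟨x, rfl⟩ := hw; exact ⟨F x, hs x, Ideal.subset_span ⟨x, rfl⟩⟩
  | zero => exact ⟨0, by simp, by simp⟩
  | add p q _ _ hp hq =>
    obtain ⟨v, hv, hv'⟩ := hp; obtain ⟨v', hw, hw'⟩ := hq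
    exact ⟨v + v', by rw [mul_add, map_add, mul_add, hv, hw], add_mem hv' hw'⟩
  | smul c p _ hp =>
    obtain ⟨v, hv, hv'⟩ := hp
    exact ⟨Algebra.TensorProduct.map σ₁ σ₂ c * v, by rw [smul_eq_mul, map_mul, mul_left_comm, hv, mul_left_comm],
      Ideal.mul_mem_left _ _ hv'⟩

end

end Groth.Agent.Lib.Pic85
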