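import Groth.Agent.Lib.Pic85.Slice
import Groth.Agent.Lib.UnitsProd.Algebra
import Groth.Agent.Lib.GrpQ.Rosenlicht
import Mathlib.RingTheory.HopfAlgebra.Convolution

/-!
# Translations of the coordinate ring of a group
-/

set_option autoImplicit false
universe u
open scoped TensorProduct
open WithConv

namespace Groth.Agent.Lib.Pic85

noncomputable section

variable {k : Type u} [Field k] {A : Type u} [CommRing A]

section Bialg

variable [Bialgebra k A]

/-- Comultiplication. -/
def Δ (k : Type u) [Field k] (A : Type u) [CommRing A] [Bialgebra k A] : A →ₐ[k] A ⊗[k] A :=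
  Bialgebra.comulAlgHom k A

/-- Comultiplication with exchanged factors. -/
def Δc (k : Type u) [Field k] (A : Type u) [CommRing A] [Bialgebra k A] : A →ₐ[k] A ⊗[k] A :=
  (Algebra.TensorProduct.comm k A A).toAlgHom.comp (Δ k A)

/-- The product of two points. -/
def pmul (g h : A →ₐ[k] k) : A →ₐ[k] k := (toConv g * toConv h).ofConv

/-- The unit point. -/
def pone (k : Type u) [Field k] (A : Type u) [CommRing A] [Bialgebra k A] : A →ₐ[k] k := (1 : WithConv (A →ₐ[k] k)).ofConv

theorem comp_E (h : A →ₐ[k] k) (g : A →ₐ[k] k) (t : A ⊗[k] A) :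
    h (E g t) = Algebra.TensorProduct.lmul' k (Algebra.TensorProduct.map h g t) := by
  induction t using TensorProduct.induction_on with
  | zero => simp
  | add x y hx hy => simp only [map_add, hx, hy]
  | tmul x y => simp

theorem comp_tr (h g : A →ₐ[k] k) : h.comp (tr (Δ k A) g) = pmul h g := by
  ext a
  exact comp_E h g _

theorem comp_tr_c (h g : A →ₐ[k] k) : h.comp (tr (Δc k A) g) = pmul g h := by
  ext a
  show h (E g (Algebra.TensorProduct.comm k A A (Δ k A a))) = Algebra.TensorProduct.lmul' k
    (Algebra.TensorProduct.map g h (Δ k A a))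
  induction Δ k A a using TensorProduct.induction_on with
  | zero => simp
  | add x y hx hy => simp only [map_add, hx, hy]
  | tmul x y => simp [mul_comm]

theorem tr_one : tr (Δ k A) (pone k A) = AlgHom.id k A := by
  ext a
  show E (pone k A) (Coalgebra.comul a) = a
  have h : ∀ t : A ⊗[k] A, E (pone k A) t = TensorProduct.rid k A ((Coalgebra.counit (R := k) (A := A)).lTensor A t) := by
    intro t
    induction t using TensorProduct.induction_on with
    | zero => simp
    | add x y hx hy => simp only [map_add, hx, hy]
    | tmul x y => simp [pone, Algebra.smul_def, mul_comm]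
  rw [h, Coalgebra.lTensor_counit_comul]
  simp

theorem trc_one : tr (Δc k A) (pone k A) = AlgHom.id k A := by
  ext a
  show E (pone k A) (Algebra.TensorProduct.comm k A A (Coalgebra.comul a)) = a
  have h : ∀ t : A ⊗[k] A, E (pone k A) (Algebra.TensorProduct.comm k A A t) =
      TensorProduct.lid k A ((Coalgebra.counit (R := k) (A := A)).rTensor A t) := by
    intro t
    induction t using TensorProduct.induction_on with
    | zero => simp
    | add x y hx hy => simp only [map_add, hx, hy]
    | tmul x y => simp [pone, Algebra.smul_def, mul_comm]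
  rw [h, Coalgebra.rTensor_counit_comul]
  simp

/-- Associativity in the form `x (g h)`. -/
theorem mid (g : A →ₐ[k] k) :
    (Algebra.TensorProduct.map (tr (Δ k A) g) (AlgHom.id k A)).comp (Δ k A) =
      (Algebra.TensorProduct.map (AlgHom.id k A) (tr (Δc k A) g)).comp (Δ k A) := by
  ext a
  let E' : A ⊗[k] A →ₐ[k] A := (E g).comp (Algebra.TensorProduct.comm k A A).toAlgHom
  let M := Algebra.TensorProduct.map (AlgHom.id k A) E'
  have h1 : ∀ t : A ⊗[k] A, Algebra.TensorProduct.map (tr (Δ k A) g) (AlgHom.id k A) t =
      M (TensorProduct.assoc k A A A ((Coalgebra.comul (R := k) (A := A)).rTensor A t)) := by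
    intro t
    induction t using TensorProduct.induction_on with
    | zero => simp
    | add x y hx hy => simp only [map_add, hx, hy]
    | tmul x y =>
      rw [Algebra.TensorProduct.map_tmul, AlgHom.id_apply, LinearMap.rTensor_tmul]
      show E g (Coalgebra.comul x) ⊗ₜ[k] y = _
      induction Coalgebra.comul (R := k) x using TensorProduct.induction_on with
      | zero => simp
      | add p q hp hq => simp only [map_add, TensorProduct.add_tmul, hp, hq]
      | tmul p q =>
        simp [M, E', Algebra.algebraMap_eq_smul_one, TensorProduct.smul_tmul', mul_comm, TensorProduct.tmul_smul]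
  have h2 : ∀ t : A ⊗[k] A, Algebra.TensorProduct.map (AlgHom.id k A) (tr (Δc k A) g) t =
      M ((Coalgebra.comul (R := k) (A := A)).lTensor A t) := by
    intro t
    induction t using TensorProduct.induction_on with
    | zero => simp
    | add x y hx hy => simp only [map_add, hx, hy]
    | tmul x y => rfl
  show Algebra.TensorProduct.map (tr (Δ k A) g) (AlgHom.id k A) (Coalgebra.comul a) =
    Algebra.TensorProduct.map (AlgHom.id k A) (tr (Δc k A) g) (Coalgebra.comul a)
  rw [h1, h2, Coalgebra.coassoc_apply]

theorem E_map_left (σ : A →ₐ[k] A) (h : A →ₐ[k] k) (t : A ⊗[k] A) :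
    E h (Algebra.TensorProduct.map σ (AlgHom.id k A) t) = σ (E h t) := by
  induction t using TensorProduct.induction_on with
  | zero => simp
  | add x y hx hy => simp only [map_add, hx, hy]
  | tmul x y => simp

theorem E_map_right (σ : A →ₐ[k] A) (h : A →ₐ[k] k) (t : A ⊗[k] A) :
    E h (Algebra.TensorProduct.map (AlgHom.id k A) σ t) = E (h.comp σ) t := by
  induction t using TensorProduct.induction_on with
  | zero => simp
  | add x y hx hy => simp only [map_add, hx, hy]
  | tmul x y => simp

theorem tr_tr (g h : A →ₐ[k] k) (a : A) :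
    tr (Δ k A) g (tr (Δ k A) h a) = tr (Δ k A) (pmul g h) a := by
  show tr (Δ k A) g (E h (Δ k A a)) = E (pmul g h) (Δ k A a)
  rw [← E_map_left, ← comp_tr_c, ← E_map_right]
  exact congrArg (E h) (AlgHom.congr_fun (mid g) a)

theorem trc_trc (g h : A →ₐ[k] k) (a : A) :
    tr (Δc k A) g (tr (Δc k A) h a) = tr (Δc k A) (pmul h g) a := by
  have e1 : ∀ (σ : A →ₐ[k] A) (p : A →ₐ[k] k) (t : A ⊗[k] A),
      E p (Algebra.TensorProduct.comm k A A (Algebra.TensorProduct.map (AlgHom.id k A) σ t)) =
        σ (E p (Algebra.TensorProduct.comm k A A t)) := by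
    intro σ p t
    induction t using TensorProduct.induction_on with
    | zero => simp
    | add x y hx hy => simp only [map_add, hx, hy]
    | tmul x y => simp
  have e2 : ∀ (σ : A →ₐ[k] A) (p : A →ₐ[k] k) (t : A ⊗[k] A),
      E p (Algebra.TensorProduct.comm k A A (Algebra.TensorProduct.map σ (AlgHom.id k A) t)) =
        E (p.comp σ) (Algebra.TensorProduct.comm k A A t) := by
    intro σ p t
    induction t using TensorProduct.induction_on with
    | zero => simp
    | add x y hx hy => simp only [map_add, hx, hy]
    | tmul x y => simp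
  show tr (Δc k A) g (E h (Algebra.TensorProduct.comm k A A (Δ k A a))) =
    E (pmul h g) (Algebra.TensorProduct.comm k A A (Δ k A a))
  rw [← e1, ← comp_tr, ← e2]
  exact congrArg (fun t => E h (Algebra.TensorProduct.comm k A A t)) (AlgHom.congr_fun (mid g) a).symm

end Bialg

section Hopf

variable [HopfAlgebra k A]

theorem tr_injective (g : A →ₐ[k] k) : Function.Injective (tr (Δ k A) g) := fun a b h => by
  have h1 := congrArg (tr (Δ k A) ((toConv g)⁻¹).ofConv) h
  rwa [tr_tr, tr_tr, show pmul ((toConv g)⁻¹).ofConv g = pone k A from congrArg ofConv (inv_mul_cancel (toConv g)),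
    tr_one] at h1

theorem trc_injective (g : A →ₐ[k] k) : Function.Injective (tr (Δc k A) g) := fun a b h => by
  have h1 := congrArg (tr (Δc k A) ((toConv g)⁻¹).ofConv) h
  rwa [trc_trc, trc_trc, show pmul g ((toConv g)⁻¹).ofConv = pone k A from congrArg ofConv (mul_inv_cancel (toConv g)),
    trc_one] at h1

theorem mid_injective (g : A →ₐ[k] k) (a : A) (ha : a ≠ 0) :
    Algebra.TensorProduct.map (tr (Δ k A) g) (AlgHom.id k A) (Δ k A a) ≠ 0 := fun h => by
  have h1 := congrArg (E (pone k A)) h
  rw [E_map_left, map_zero, show E (pone k A) (Δ k A a) = tr (Δ k A) (pone k A) a from rfl, tr_one,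
    AlgHom.id_apply] at h1
  exact ha (tr_injective g (h1.trans (map_zero _).symm))

end Hopf

section Units

variable [Algebra k A] [IsAlgClosed k]

/-- The slices of a unit of `A ⊗ A` are proportional. -/
theorem slices [IsDomain A] [Algebra.FiniteType k A] (u : A ⊗[k] A) (hu : IsUnit u) (e₁ e₂ h : A →ₐ[k] k) :
    ∃ c : k, E h u = algebraMap k A c * E e₂ u := by
  have he : e₁ (E e₂ u) ≠ 0 := ((hu.map (E e₂)).map e₁).ne_zero
  refine ⟨e₁ (E h u) / e₁ (E e₂ u), GrpQ.Rosenlicht.eq_of_forall_point (k := k) fun z => ?_⟩
  have hpm : ∀ (p q : A →ₐ[k] k) (t : A ⊗[k] A), Algebra.TensorProduct.productMap p q t = p (E q t) := fun p q t => by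
    induction t using TensorProduct.induction_on with
    | zero => simp
    | add x y hx hy => simp only [map_add, hx, hy]
    | tmul x y => simp
  have := UnitsProd.ev_mul_ev u hu z e₁ h e₂
  rw [hpm, hpm, hpm, hpm] at this
  rw [map_mul, AlgHom.commutes, Algebra.algebraMap_self_apply]
  field_simp
  linear_combination this

end Units

end

end Groth.Agent.Lib.Pic85
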